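import Groth.Agent.TrdegPair.Amalgam
import Groth.Prelude.Def_Dual3

/-!
Points over a pair with the same residual transcendence degree.
-/

set_option autoImplicit false
set_option linter.style.haveILetI false
set_option backward.isDefEq.respectTransparency false
set_option maxHeartbeats 1000000

universe u

noncomputable section

open CategoryTheory CategoryTheory.Limits AlgebraicGeometry IsLocalRing

namespace Groth.Agent.TrdegPair

theorem exists_res {F : Type u} [Field F] {Y : Scheme.{u}} (a : Spec (CommRingCat.of F) ⟶ Y) (y : Y)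
    (h : a (closedPoint F) = y) :
    ∃ φ : Y.residueField y →+* F, a = Spec.map (CommRingCat.ofHom φ) ≫ Y.fromSpecResidueField y := by
  subst h
  exact ⟨(Scheme.descResidueField (Scheme.stalkClosedPointTo a)).hom,
    (Scheme.descResidueField_stalkClosedPointTo_fromSpecResidueField F Y a).symm⟩

theorem res_unique {F : Type u} [Field F] {Y : Scheme.{u}} {y : Y} {φ ψ : Y.residueField y →+* F}
    (h : Spec.map (CommRingCat.ofHom φ) ≫ Y.fromSpecResidueField y =
      Spec.map (CommRingCat.ofHom ψ) ≫ Y.fromSpecResidueField y) : φ = ψ :=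
  congrArg CommRingCat.Hom.hom (Spec.map_injective ((cancel_mono _).1 h))

theorem Spec_comp {A B C : Type u} [CommRing A] [CommRing B] [CommRing C] (f : A →+* B) (g : B →+* C) :
    Spec.map (CommRingCat.ofHom (g.comp f)) = Spec.map (CommRingCat.ofHom g) ≫ Spec.map (CommRingCat.ofHom f) := by
  rw [← Spec.map_comp]
  rfl

/-- elements algebraic over a subring of a field -/
def algSub {Ω : Type u} [Field Ω] (B : Subring Ω) : Subfield Ω where
  toSubring := (Subalgebra.algebraicClosure B Ω).toSubring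
  inv_mem' _ hx := IsAlgebraic.inv hx

theorem mem_algSub {Ω : Type u} [Field Ω] {B : Subring Ω} {z : Ω} : z ∈ algSub B ↔ IsAlgebraic B z := Iff.rfl

theorem le_algSub {Ω : Type u} [Field Ω] {B : Subring Ω} {z : Ω} (hz : z ∈ B) : z ∈ algSub B :=
  isAlgebraic_algebraMap (⟨z, hz⟩ : B)

theorem algebraic_map {A K Ω : Type u} [CommRing A] [Field K] [Field Ω] [Algebra A K]
    (hA : Function.Injective (algebraMap A K)) (φ : K →+* Ω) (B : Subring Ω)
    (h : ∀ a, φ (algebraMap A K a) ∈ B) {z : K} (hz : IsAlgebraic A z) : φ z ∈ algSub B := by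
  let ρ : A →+* B := (φ.comp (algebraMap A K)).codRestrict B h
  exact IsAlgebraic.ringHom_of_comp_eq (f := ρ) (g := φ) hz
    (fun a b e => hA (φ.injective (congrArg Subtype.val e))) rfl

theorem range_le_of_pullback {W A B C : Scheme.{u}} {pA : W ⟶ A} {pB : W ⟶ B} {f : A ⟶ C} {g : B ⟶ C}
    (sq : IsPullback pA pB f g) {F : Type u} [Field F] {w : W} (φ : W.residueField w →+* F) (L : Subfield F)
    {a : A} (ψA : A.residueField a →+* F)
    (hA : (Spec.map (CommRingCat.ofHom φ) ≫ W.fromSpecResidueField w) ≫ pA =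
      Spec.map (CommRingCat.ofHom ψA) ≫ A.fromSpecResidueField a) (hAL : ∀ z, ψA z ∈ L)
    {b : B} (ψB : B.residueField b →+* F)
    (hB : (Spec.map (CommRingCat.ofHom φ) ≫ W.fromSpecResidueField w) ≫ pB =
      Spec.map (CommRingCat.ofHom ψB) ≫ B.fromSpecResidueField b) (hBL : ∀ z, ψB z ∈ L) (z : W.residueField w) :
    φ z ∈ L := by
  let a' := Spec.map (CommRingCat.ofHom (ψA.codRestrict L hAL)) ≫ A.fromSpecResidueField a
  let b' := Spec.map (CommRingCat.ofHom (ψB.codRestrict L hBL)) ≫ B.fromSpecResidueField b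
  let s := Spec.map (CommRingCat.ofHom L.subtype)
  haveI : Surjective s := ⟨fun z => ⟨closedPoint F, Subsingleton.elim (α := PrimeSpectrum L) _ _⟩⟩
  haveI : Subsingleton ↥(Spec (CommRingCat.of L)) := inferInstanceAs (Subsingleton (PrimeSpectrum L))
  haveI : Flat s := inferInstance
  haveI : Epi s := Flat.epi_of_flat_of_surjective _
  have ha : s ≫ a' = (Spec.map (CommRingCat.ofHom φ) ≫ W.fromSpecResidueField w) ≫ pA := by
    rw [hA, ← Category.assoc, ← Spec_comp]
    rfl
  have hb : s ≫ b' = (Spec.map (CommRingCat.ofHom φ) ≫ W.fromSpecResidueField w) ≫ pB := by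
    rw [hB, ← Category.assoc, ← Spec_comp]
    rfl
  let l := sq.lift a' b' (by
    rw [← cancel_epi s, ← Category.assoc, ha, ← Category.assoc, hb, Category.assoc, Category.assoc, sq.w,
      Category.assoc, Category.assoc])
  have hl : s ≫ l = Spec.map (CommRingCat.ofHom φ) ≫ W.fromSpecResidueField w :=
    sq.hom_ext (by rw [Category.assoc, sq.lift_fst, ha]) (by rw [Category.assoc, sq.lift_snd, hb])
  have hw : l (closedPoint L) = w := by
    have e := congrArg (fun k => k (closedPoint F)) hl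
    simp only [Scheme.Hom.comp_apply] at e
    exact ((congrArg l (Subsingleton.elim (α := PrimeSpectrum L) _ _)).trans e).trans
      (Scheme.fromSpecResidueField_apply w _)
  obtain ⟨φ', hφ'⟩ := exists_res l w hw
  have : φ = L.subtype.comp φ' := res_unique (by rw [← hl, hφ', ← Category.assoc, ← Spec_comp])
  rw [this]
  exact (φ' z).2

theorem exists_res_comp {X Y : Scheme.{u}} (h : X ⟶ Y) (x : X) (y : Y) (e : h x = y) :
    ∃ β : Y.residueField y →+* X.residueField x,
      X.fromSpecResidueField x ≫ h = Spec.map (CommRingCat.ofHom β) ≫ Y.fromSpecResidueField y :=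
  exists_res (F := X.residueField x) (X.fromSpecResidueField x ≫ h) y
    ((congrArg h (Scheme.fromSpecResidueField_apply x _)).trans e)

theorem fromSpec_comp {X Y : Scheme.{u}} (h : X ⟶ Y) (x : X) :
    X.fromSpecResidueField x ≫ h =
      Spec.map (CommRingCat.ofHom (h.residueFieldMap x).hom) ≫ Y.fromSpecResidueField (h x) :=
  (h.SpecMap_residueFieldMap_fromSpecResidueField x).symm

/-- generators of the residue field of a point of a base change are algebraic over the independent family -/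
theorem isTranscendenceBasis_baseChange {X S S' X' : Scheme.{u}} {f : X ⟶ S} {g : S' ⟶ S} {f' : X' ⟶ S'}
    {g' : X' ⟶ X} (hX : IsPullback g' f' f g) {x : X} {x₁ : X'} (β : X.residueField x →+* X'.residueField x₁)
    (hβ : X'.fromSpecResidueField x₁ ≫ g' = Spec.map (CommRingCat.ofHom β) ≫ X.fromSpecResidueField x) {r : ℕ}
    (t : Fin r → X.residueField x)
    (ht : @IsTranscendenceBasis (Fin r) (S.residueField (f x)) (X.residueField x) _ _
      (f.residueFieldMap x).hom.toAlgebra t)
    (γ : S.residueField (f x) →+* S'.residueField (f' x₁))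
    (hγ : β.comp (f.residueFieldMap x).hom = (f'.residueFieldMap x₁).hom.comp γ)
    (hx₁ : Dual3.resTrdeg f' x₁ = r) :
    @IsTranscendenceBasis (Fin r) (S'.residueField (f' x₁)) (X'.residueField x₁) _ _
      (f'.residueFieldMap x₁).hom.toAlgebra (fun i => β (t i)) := by
  letI := (f.residueFieldMap x).hom.toAlgebra
  letI := (f'.residueFieldMap x₁).hom.toAlgebra
  let A := Algebra.adjoin (S'.residueField (f' x₁)) (Set.range fun i => β (t i))
  haveI := ht.isAlgebraic
  have hmem : ∀ a ∈ Algebra.adjoin (S.residueField (f x)) (Set.range t), β a ∈ A.toSubring := fun a ha => by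
    induction ha using Algebra.adjoin_induction with
    | mem y hy =>
      obtain ⟨i, rfl⟩ := hy
      exact Algebra.subset_adjoin ⟨i, rfl⟩
    | algebraMap c =>
      rw [show β (algebraMap _ _ c) = algebraMap (S'.residueField (f' x₁)) (X'.residueField x₁) (γ c) from
        RingHom.congr_fun hγ c]
      exact A.algebraMap_mem _
    | add a b _ _ ha hb => rw [map_add]; exact add_mem ha hb
    | mul a b _ _ ha hb => rw [map_mul]; exact mul_mem ha hb
  haveI : Algebra.IsAlgebraic A (X'.residueField x₁) := by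
    refine ⟨fun z => ?_⟩
    have h : RingHom.id (X'.residueField x₁) z ∈ algSub A.toSubring := by
      refine range_le_of_pullback hX (RingHom.id _) _ β ?_ (fun c => ?_) (f'.residueFieldMap x₁).hom ?_
        (fun c => le_algSub (A.algebraMap_mem c)) z
      · rw [CommRingCat.ofHom_id, Spec.map_id, Category.id_comp, hβ]
      · exact algebraic_map (A := Algebra.adjoin (S.residueField (f x)) (Set.range t)) Subtype.val_injective β _
          (fun a => hmem a.1 a.2) (Algebra.IsAlgebraic.isAlgebraic c)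
      · rw [CommRingCat.ofHom_id, Spec.map_id, Category.id_comp, fromSpec_comp]
    exact h
  refine Algebra.IsAlgebraic.isTranscendenceBasis_of_lift_le_trdeg_of_finite (S'.residueField (f' x₁))
    (fun i => β (t i)) ?_
  rw [show Algebra.trdeg (S'.residueField (f' x₁)) (X'.residueField x₁) = r from hx₁, Cardinal.mk_fin,
    Cardinal.lift_natCast, Cardinal.lift_natCast]

theorem exists_point_over_pair {X S S' S'' X' X'' : Scheme.{u}}
    (f : X ⟶ S) (r : ℕ) (g : S' ⟶ S)
    (p q : S'' ⟶ S') (hS : IsPullback p q g g)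
    (f' : X' ⟶ S') (g' : X' ⟶ X) (hX : IsPullback g' f' f g)
    (f'' : X'' ⟶ S'') (p' q' : X'' ⟶ X') (hp : IsPullback p' f'' f' p) (hq : IsPullback q' f'' f' q)
    (hpq : p' ≫ g' = q' ≫ g')
    (x : X) (hx : Dual3.resTrdeg f x = r) (x₁ x₂ : X') (h₁ : g' x₁ = x) (h₂ : g' x₂ = x)
    (hx₁ : Dual3.resTrdeg f' x₁ = r) (hx₂ : Dual3.resTrdeg f' x₂ = r) :
    ∃ x'' : X'', Dual3.resTrdeg f'' x'' = r ∧ p' x'' = x₁ ∧ q' x'' = x₂ := by
  let k := S.residueField (f x)
  let kx := X.residueField x
  let res := (f.residueFieldMap x).hom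
  let res₁ := (f'.residueFieldMap x₁).hom
  let res₂ := (f'.residueFieldMap x₂).hom
  letI a1 : Algebra k kx := res.toAlgebra
  letI : Algebra (S'.residueField (f' x₁)) (X'.residueField x₁) := res₁.toAlgebra
  letI : Algebra (S'.residueField (f' x₂)) (X'.residueField x₂) := res₂.toAlgebra
  obtain ⟨s, hs⟩ := exists_isTranscendenceBasis' (R := k) (A := kx)
  obtain ⟨ι, t₀, ht₀⟩ : ∃ (ι : Type u) (t₀ : ι → kx), IsTranscendenceBasis k t₀ := ⟨s, hs⟩
  have hcard : Cardinal.mk ι = r := (ht₀.cardinalMk_eq_trdeg).trans hx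
  obtain ⟨e⟩ : Nonempty (Fin r ≃ ι) := by
    rw [← Cardinal.lift_mk_eq'.{0, u}, Cardinal.mk_fin, Cardinal.lift_natCast, hcard, Cardinal.lift_natCast]
  let t : Fin r → kx := t₀ ∘ e
  have ht : IsTranscendenceBasis k t := ht₀.comp_equiv e
  obtain ⟨β₁, hβ₁⟩ := exists_res_comp g' x₁ x h₁
  obtain ⟨β₂, hβ₂⟩ := exists_res_comp g' x₂ x h₂
  have hpt : ∀ x₁ : X', g' x₁ = x → g (f' x₁) = f x := fun x₁ h₁ => by
    rw [← Scheme.Hom.comp_apply, ← hX.w, Scheme.Hom.comp_apply, h₁]
  obtain ⟨γ₁, hγ₁⟩ := exists_res_comp g (f' x₁) (f x) (hpt x₁ h₁)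
  obtain ⟨γ₂, hγ₂⟩ := exists_res_comp g (f' x₂) (f x) (hpt x₂ h₂)
  have hsq : ∀ (x₁ : X') (β : kx →+* X'.residueField x₁) (γ : k →+* S'.residueField (f' x₁)),
      X'.fromSpecResidueField x₁ ≫ g' = Spec.map (CommRingCat.ofHom β) ≫ X.fromSpecResidueField x →
      S'.fromSpecResidueField (f' x₁) ≫ g = Spec.map (CommRingCat.ofHom γ) ≫ S.fromSpecResidueField (f x) →
      β.comp res = (f'.residueFieldMap x₁).hom.comp γ := fun x₁ β γ hβ hγ => by
    refine res_unique ?_
    rw [Spec_comp, Spec_comp, Category.assoc, Category.assoc, ← fromSpec_comp, ← Category.assoc, ← hβ, ← hγ,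
      Category.assoc, hX.w, ← Category.assoc, ← Category.assoc, fromSpec_comp]
  have hc₁ := hsq x₁ β₁ γ₁ hβ₁ hγ₁
  have hc₂ := hsq x₂ β₂ γ₂ hβ₂ hγ₂
  have ht₁ := isTranscendenceBasis_baseChange hX β₁ hβ₁ t ht γ₁ hc₁ hx₁
  have ht₂ := isTranscendenceBasis_baseChange hX β₂ hβ₂ t ht γ₂ hc₂ hx₂
  letI : Algebra kx (X'.residueField x₁) := β₁.toAlgebra
  letI : Algebra kx (X'.residueField x₂) := β₂.toAlgebra
  letI : Algebra k (S'.residueField (f' x₁)) := γ₁.toAlgebra
  letI : Algebra k (S'.residueField (f' x₂)) := γ₂.toAlgebra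
  letI : Algebra k (X'.residueField x₁) := (β₁.comp res).toAlgebra
  letI : Algebra k (X'.residueField x₂) := (β₂.comp res).toAlgebra
  haveI : IsScalarTower k kx (X'.residueField x₁) := IsScalarTower.of_algebraMap_eq' rfl
  haveI : IsScalarTower k kx (X'.residueField x₂) := IsScalarTower.of_algebraMap_eq' rfl
  haveI : IsScalarTower k (S'.residueField (f' x₁)) (X'.residueField x₁) := IsScalarTower.of_algebraMap_eq' hc₁
  haveI : IsScalarTower k (S'.residueField (f' x₂)) (X'.residueField x₂) := IsScalarTower.of_algebraMap_eq' hc₂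
  obtain ⟨Ω, K, _, _, _, φ₁, φ₂, u₁, u₂, hφ, hu, hφu₁, hφu₂, hind⟩ := exists_amalgam t ht ht₁.1 ht₂.1
  let η := algebraMap K Ω
  let a₁ := Spec.map (CommRingCat.ofHom φ₁) ≫ X'.fromSpecResidueField x₁
  let a₂ := Spec.map (CommRingCat.ofHom φ₂) ≫ X'.fromSpecResidueField x₂
  let m₁ := Spec.map (CommRingCat.ofHom u₁) ≫ S'.fromSpecResidueField (f' x₁)
  let m₂ := Spec.map (CommRingCat.ofHom u₂) ≫ S'.fromSpecResidueField (f' x₂)
  have hm : m₁ ≫ g = m₂ ≫ g := by
    simp only [m₁, m₂, Category.assoc, hγ₁, hγ₂]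
    rw [← Category.assoc, ← Spec_comp, ← Category.assoc, ← Spec_comp]
    exact congrArg (fun k => Spec.map (CommRingCat.ofHom k) ≫ S.fromSpecResidueField (f x)) hu
  let m := hS.lift m₁ m₂ hm
  let sη := Spec.map (CommRingCat.ofHom η)
  have ha₁ : a₁ ≫ f' = (sη ≫ m) ≫ p := by
    rw [Category.assoc sη, hS.lift_fst]
    simp only [a₁, m₁, sη, Category.assoc, fromSpec_comp]
    rw [← Category.assoc, ← Spec_comp, ← Category.assoc, ← Spec_comp]
    exact congrArg (fun k => Spec.map (CommRingCat.ofHom k) ≫ S'.fromSpecResidueField (f' x₁)) hφu₁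
  have ha₂ : a₂ ≫ f' = (sη ≫ m) ≫ q := by
    rw [Category.assoc sη, hS.lift_snd]
    simp only [a₂, m₂, sη, Category.assoc, fromSpec_comp]
    rw [← Category.assoc, ← Spec_comp, ← Category.assoc, ← Spec_comp]
    exact congrArg (fun k => Spec.map (CommRingCat.ofHom k) ≫ S'.fromSpecResidueField (f' x₂)) hφu₂
  let a := hp.lift a₁ (sη ≫ m) ha₁
  have haq : a ≫ q' = a₂ := by
    refine hX.hom_ext ?_ ?_
    · rw [Category.assoc, ← hpq, ← Category.assoc, hp.lift_fst]
      simp only [a₁, a₂, Category.assoc, hβ₁, hβ₂]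
      rw [← Category.assoc, ← Spec_comp, ← Category.assoc, ← Spec_comp]
      exact congrArg (fun k => Spec.map (CommRingCat.ofHom k) ≫ X.fromSpecResidueField x) hφ
    · rw [Category.assoc, hq.w, ← Category.assoc, hp.lift_snd, ha₂]
  let x'' := a (closedPoint Ω)
  have hx''₁ : p' x'' = x₁ :=
    (congrArg (fun k => k (closedPoint Ω)) (hp.lift_fst a₁ (sη ≫ m) ha₁)).trans
      (Scheme.fromSpecResidueField_apply x₁ _)
  have hx''₂ : q' x'' = x₂ :=
    (congrArg (fun k => k (closedPoint Ω)) haq).trans (Scheme.fromSpecResidueField_apply x₂ _)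
  refine ⟨x'', ?_, hx''₁, hx''₂⟩
  obtain ⟨ψ, hψ⟩ := exists_res a x'' rfl
  let res'' := (f''.residueFieldMap x'').hom
  obtain ⟨θ, hθ⟩ := exists_res m (f'' x'') (by
    rw [← Scheme.Hom.comp_apply a f'', hp.lift_snd, Scheme.Hom.comp_apply]
    exact congrArg m (Subsingleton.elim (α := PrimeSpectrum K) _ _))
  have hψθ : ψ.comp res'' = η.comp θ := res_unique (by
    rw [Spec_comp, Spec_comp, Category.assoc, Category.assoc, ← fromSpec_comp f'' x'', ← hθ, ← Category.assoc, ← hψ,
      hp.lift_snd])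
  obtain ⟨ε, hε⟩ := exists_res_comp p' x'' x₁ hx''₁
  have hψε : ψ.comp ε = φ₁ := res_unique (by
    rw [Spec_comp, Category.assoc, ← hε, ← Category.assoc, ← hψ, hp.lift_fst])
  obtain ⟨δ, hδ⟩ := exists_res_comp p (f'' x'') (f' x₁) (by
    rw [← Scheme.Hom.comp_apply, ← hp.w, Scheme.Hom.comp_apply, hx''₁])
  have hψδ : (ψ.comp res'').comp δ = φ₁.comp res₁ := res_unique (by
    rw [Spec_comp, Spec_comp, Spec_comp, Category.assoc, Category.assoc, Category.assoc, ← hδ, ← fromSpec_comp f' x₁,
      ← Category.assoc (Spec.map (CommRingCat.ofHom res'')), ← fromSpec_comp f'' x'', ← Category.assoc, ← Category.assoc,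
      ← Category.assoc, ← hψ, hp.lift_snd, ← ha₁, Category.assoc])
  letI alg'' : Algebra (S''.residueField (f'' x'')) (X''.residueField x'') := res''.toAlgebra
  let t'' : Fin r → X''.residueField x'' := fun i => ε (β₁ (t i))
  letI : Algebra (S''.residueField (f'' x'')) K := θ.toAlgebra
  letI : Algebra (S''.residueField (f'' x'')) Ω := (η.comp θ).toAlgebra
  haveI : IsScalarTower (S''.residueField (f'' x'')) K Ω := IsScalarTower.of_algebraMap_eq' rfl
  let ψA : X''.residueField x'' →ₐ[S''.residueField (f'' x'')] Ω :=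
    { ψ with commutes' := RingHom.congr_fun hψθ }
  have hind'' : AlgebraicIndependent (S''.residueField (f'' x'')) t'' := by
    refine AlgebraicIndependent.of_comp ψA ?_
    have : (ψA ∘ t'') = fun i => φ₁ (algebraMap kx (X'.residueField x₁) (t i)) := funext fun i =>
      RingHom.congr_fun hψε _
    rw [this]
    exact hind.restrictScalars (algebraMap (S''.residueField (f'' x'')) K).injective
  let A'' := Algebra.adjoin (S''.residueField (f'' x'')) (Set.range t'')
  let B := A''.toSubring.map ψ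
  haveI : Algebra.IsAlgebraic A'' (X''.residueField x'') := by
    refine ⟨fun z => ?_⟩
    haveI := ht₁.isAlgebraic
    have hmem : ∀ a ∈ Algebra.adjoin (S'.residueField (f' x₁)) (Set.range fun i => β₁ (t i)), φ₁ a ∈ B := fun a ha => by
      induction ha using Algebra.adjoin_induction with
      | mem y hy =>
        obtain ⟨i, rfl⟩ := hy
        exact ⟨t'' i, Algebra.subset_adjoin ⟨i, rfl⟩, RingHom.congr_fun hψε _⟩
      | algebraMap c => exact ⟨res'' (δ c), A''.algebraMap_mem (δ c), RingHom.congr_fun hψδ c⟩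
      | add a b _ _ ha hb => rw [map_add]; exact add_mem ha hb
      | mul a b _ _ ha hb => rw [map_mul]; exact mul_mem ha hb
    have h : ψ z ∈ algSub B := by
      refine range_le_of_pullback hp ψ _ φ₁ ?_ (fun c => ?_) (η.comp θ) ?_ (fun c => ?_) z
      · rw [← hψ, hp.lift_fst]
      · exact algebraic_map (A := Algebra.adjoin (S'.residueField (f' x₁)) (Set.range fun i => β₁ (t i)))
          Subtype.val_injective φ₁ _ (fun a => hmem a.1 a.2) (Algebra.IsAlgebraic.isAlgebraic c)
      · rw [← hψ, hp.lift_snd, Spec_comp, Category.assoc, ← hθ]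
      · exact le_algSub ⟨res'' c, A''.algebraMap_mem c, RingHom.congr_fun hψθ c⟩
    let ρ : A'' →+* B := (ψ.comp A''.val.toRingHom).codRestrict B fun a => ⟨a.1, a.2, rfl⟩
    exact IsAlgebraic.of_ringHom_of_comp_eq (f := ρ) (g := ψ) h
      (fun b => by
        obtain ⟨y, hy, hy'⟩ := b.2
        exact ⟨⟨y, hy⟩, Subtype.ext hy'⟩)
      ψ.injective rfl
  have hb : IsTranscendenceBasis (S''.residueField (f'' x'')) t'' :=
    hind''.isTranscendenceBasis_iff_isAlgebraic.2 inferInstance
  have h := hb.lift_cardinalMk_eq_trdeg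
  rw [Cardinal.mk_fin, Cardinal.lift_natCast, eq_comm, Cardinal.lift_eq_nat_iff] at h
  exact h

end Groth.Agent.TrdegPair
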