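import Mathlib

/-!
Amalgams of field extensions keeping a transcendence basis independent.
-/

set_option autoImplicit false
set_option linter.style.haveILetI false
set_option linter.deprecated false
set_option maxHeartbeats 1000000

universe u

open TensorProduct

namespace Groth.Agent.TrdegPair

/-- a prime of the polynomial ring which is minimal is extended from the coefficients -/
theorem coeff_mem_of_minimal {R : Type u} [CommRing R] {σ : Type} (q : Ideal (MvPolynomial σ R))
    (hq : q ∈ minimalPrimes (MvPolynomial σ R)) {F : MvPolynomial σ R} (hF : F ∈ q) (m : σ →₀ ℕ) :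
    F.coeff m ∈ q.comap MvPolynomial.C := by
  haveI := Ideal.minimalPrimes_isPrime hq
  let p := q.comap MvPolynomial.C
  let P : Ideal (MvPolynomial σ R) := RingHom.ker (MvPolynomial.map (Ideal.Quotient.mk p))
  haveI : P.IsPrime := RingHom.ker_isPrime _
  have hle : P ≤ q := by
    intro G hG
    rw [← G.support_sum_monomial_coeff]
    refine Ideal.sum_mem _ fun n _ => ?_
    have hc : G.coeff n ∈ p := by
      rw [← Ideal.Quotient.eq_zero_iff_mem, ← MvPolynomial.coeff_map, (hG : MvPolynomial.map _ G = 0)]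
      simp
    rw [← mul_one (G.coeff n), ← MvPolynomial.C_mul_monomial]
    exact Ideal.mul_mem_right _ _ hc
  have hqP : q ≤ P := hq.2 ⟨inferInstance, bot_le⟩ hle
  have := congrArg (MvPolynomial.coeff m) (hqP hF : MvPolynomial.map (Ideal.Quotient.mk p) F = 0)
  rwa [MvPolynomial.coeff_map, MvPolynomial.coeff_zero, Ideal.Quotient.eq_zero_iff_mem] at this

section

variable {k kx k₁ k₂ K₁ K₂ : Type u} [Field k] [Field kx] [Field k₁] [Field k₂] [Field K₁] [Field K₂]

theorem flat_of_algebraicIndependent {A K : Type u} [CommRing A] [IsDomain A] [Field K] [Algebra A K]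
    (h : Function.Injective (algebraMap A K)) : Module.Flat A K := by
  haveI : FaithfulSMul A K := (faithfulSMul_iff_algebraMap_injective A K).2 h
  letI := FractionRing.liftAlgebra A K
  exact Module.Flat.trans A (FractionRing A) K

theorem flat_map_left {P A A' B : Type u} [CommRing P] [CommRing A] [CommRing A'] [CommRing B] [Algebra P A]
    [Algebra P A'] [Algebra P B] [Algebra A A'] [IsScalarTower P A A'] [Module.Flat A A'] :
    (Algebra.TensorProduct.map (IsScalarTower.toAlgHom P A A') (AlgHom.id P B)).toRingHom.Flat := by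
  let C := A ⊗[P] B
  have h : ((Algebra.TensorProduct.comm A C A').toRingEquiv.toRingHom.comp (algebraMap C (C ⊗[A] A'))).Flat :=
    RingHom.Flat.comp (RingHom.flat_algebraMap_iff.2 inferInstance) (RingHom.Flat.of_bijective (Algebra.TensorProduct.comm A C A').bijective)
  let e := Algebra.TensorProduct.cancelBaseChange P A A' A' B
  have h' := RingHom.Flat.comp h (RingHom.Flat.of_bijective (f := e.toRingEquiv.toRingHom) e.bijective)
  convert h' using 1
  refine RingHom.ext fun z => ?_
  show (Algebra.TensorProduct.map (IsScalarTower.toAlgHom P A A') (AlgHom.id P B)) z = e ((1 : A') ⊗ₜ[A] z)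
  induction z using TensorProduct.induction_on with
  | zero => rw [map_zero, TensorProduct.tmul_zero, map_zero]
  | tmul a b =>
    rw [Algebra.TensorProduct.map_tmul, Algebra.TensorProduct.cancelBaseChange_tmul, Algebra.smul_def, mul_one]
    rfl
  | add a b ha hb => rw [map_add, TensorProduct.tmul_add, map_add, ha, hb]

theorem exists_ringHom_tensor {A B D : Type u} [CommRing A] [CommRing B] [CommRing D] [Algebra k A] [Algebra k B]
    (f : A →+* D) (g : B →+* D) (h : ∀ c : k, f (algebraMap k A c) = g (algebraMap k B c)) :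
    ∃ ρ : A ⊗[k] B →+* D, ∀ a b, ρ (a ⊗ₜ b) = f a * g b := by
  letI : Algebra k D := (f.comp (algebraMap k A)).toAlgebra
  let f' : A →ₐ[k] D := { f with commutes' := fun _ => rfl }
  let g' : B →ₐ[k] D := { g with commutes' := fun c => (h c).symm }
  exact ⟨(Algebra.TensorProduct.lift (S := k) f' g' fun _ _ => Commute.all _ _).toRingHom,
    fun a b => Algebra.TensorProduct.lift_tmul (S := k) f' g' _ a b⟩

theorem exists_amalgam {r : ℕ} [Algebra k kx] [Algebra k k₁] [Algebra k k₂] [Algebra k K₁] [Algebra k K₂]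
    [Algebra kx K₁] [IsScalarTower k kx K₁] [Algebra kx K₂] [IsScalarTower k kx K₂]
    [Algebra k₁ K₁] [IsScalarTower k k₁ K₁] [Algebra k₂ K₂] [IsScalarTower k k₂ K₂]
    (t : Fin r → kx) (ht : IsTranscendenceBasis k t)
    (ht₁ : AlgebraicIndependent k₁ fun i => algebraMap kx K₁ (t i))
    (ht₂ : AlgebraicIndependent k₂ fun i => algebraMap kx K₂ (t i)) :
    ∃ (Ω K : Type u) (_ : Field Ω) (_ : Field K) (_ : Algebra K Ω) (φ₁ : K₁ →+* Ω) (φ₂ : K₂ →+* Ω)
      (u₁ : k₁ →+* K) (u₂ : k₂ →+* K),
      φ₁.comp (algebraMap kx K₁) = φ₂.comp (algebraMap kx K₂) ∧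
      u₁.comp (algebraMap k k₁) = u₂.comp (algebraMap k k₂) ∧
      φ₁.comp (algebraMap k₁ K₁) = (algebraMap K Ω).comp u₁ ∧
      φ₂.comp (algebraMap k₂ K₂) = (algebraMap K Ω).comp u₂ ∧
      AlgebraicIndependent K fun i => φ₁ (algebraMap kx K₁ (t i)) := by
  classical
  let P := MvPolynomial (Fin r) k
  letI : Algebra P kx := (MvPolynomial.aeval t).toRingHom.toAlgebra
  letI : Algebra P K₁ := ((algebraMap kx K₁).comp (algebraMap P kx)).toAlgebra
  letI : Algebra P K₂ := ((algebraMap kx K₂).comp (algebraMap P kx)).toAlgebra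
  haveI : IsScalarTower P kx K₁ := IsScalarTower.of_algebraMap_eq' rfl
  haveI : IsScalarTower P kx K₂ := IsScalarTower.of_algebraMap_eq' rfl
  let T := kx ⊗[P] kx
  let D := K₁ ⊗[P] K₂
  let ι : T →ₐ[P] D := Algebra.TensorProduct.map (IsScalarTower.toAlgHom P kx K₁) (IsScalarTower.toAlgHom P kx K₂)
  let μ : D →+* K₁ ⊗[kx] K₂ := (Algebra.TensorProduct.lift
    (Algebra.TensorProduct.includeLeft : K₁ →ₐ[P] K₁ ⊗[kx] K₂)
    ((Algebra.TensorProduct.includeRight : K₂ →ₐ[kx] K₁ ⊗[kx] K₂).restrictScalars P)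
    fun _ _ => Commute.all _ _).toRingHom
  haveI : Nontrivial (K₁ ⊗[kx] K₂) :=
    Algebra.TensorProduct.nontrivial_of_algebraMap_injective_of_flat_left kx K₁ K₂ (algebraMap kx K₂).injective
  obtain ⟨M, hM⟩ := Ideal.exists_maximal (K₁ ⊗[kx] K₂)
  let P₀ := M.comap μ
  obtain ⟨Q, hQ, hQP⟩ := Ideal.exists_minimalPrimes_le (I := (⊥ : Ideal D)) (J := P₀) bot_le
  haveI := Ideal.minimalPrimes_isPrime hQ
  -- the diagonal
  have hint : Algebra.IsIntegral kx T := by
    refine ⟨fun z => ?_⟩
    induction z using TensorProduct.induction_on with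
    | zero => exact isIntegral_zero
    | add a b ha hb => exact ha.add hb
    | tmul a b =>
      have h1 : IsIntegral kx ((1 : kx) ⊗ₜ[P] b) := by
        refine IsAlgebraic.isIntegral ?_
        haveI : Algebra.IsAlgebraic (Algebra.adjoin k (Set.range t)) kx := ht.isAlgebraic
        obtain ⟨F, hF0, hF⟩ := Algebra.IsAlgebraic.isAlgebraic (R := Algebra.adjoin k (Set.range t)) b
        let e := ht.1.aevalEquiv
        refine ⟨(F.map e.symm.toRingHom).map (algebraMap P kx), ?_, ?_⟩
        · rw [Ne, Polynomial.map_eq_zero_iff, Polynomial.map_eq_zero_iff]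
          · exact hF0
          · exact e.symm.injective
          · exact ht.1
        · rw [Polynomial.aeval_map_algebraMap,
            show ((1 : kx) ⊗ₜ[P] b) = (Algebra.TensorProduct.includeRight : kx →ₐ[P] T) b from rfl,
            Polynomial.aeval_algHom_apply]
          suffices h : Polynomial.aeval b (F.map e.symm.toRingHom) = 0 by rw [h, map_zero]
          rw [Polynomial.aeval_def, Polynomial.eval₂_map]
          refine Eq.trans ?_ hF
          rw [Polynomial.aeval_def]
          congr 1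
          ext z
          exact congrArg Subtype.val (e.apply_symm_apply z)
      have e : a ⊗ₜ[P] b = a • ((1 : kx) ⊗ₜ[P] b) := by rw [TensorProduct.smul_tmul', smul_eq_mul, mul_one]
      rw [e]
      exact h1.smul a
  have hdiag : ∀ a : kx, ι (a ⊗ₜ 1 - 1 ⊗ₜ a) ∈ Q := fun a => by
    have hmax : (Q.comap ι).IsMaximal :=
      Ideal.isMaximal_of_isIntegral_of_isMaximal_comap (R := kx) _ (by
        haveI := Ideal.comap_isPrime (algebraMap kx T) (Q.comap ι)
        exact Ideal.IsPrime.isMaximal' inferInstance)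
    have hne : P₀.comap ι ≠ ⊤ := Ideal.IsPrime.ne_top inferInstance
    have heq : Q.comap ι = P₀.comap ι := hmax.eq_of_le hne (Ideal.comap_mono hQP)
    show a ⊗ₜ 1 - 1 ⊗ₜ a ∈ Q.comap ι
    rw [heq]
    show μ (ι (a ⊗ₜ 1 - 1 ⊗ₜ a)) ∈ M
    have : μ (ι (a ⊗ₜ 1 - 1 ⊗ₜ a)) = 0 := by
      rw [map_sub, map_sub]
      show (algebraMap kx K₁ a ⊗ₜ[kx] (1 : K₂)) * ((1 : K₁) ⊗ₜ[kx] algebraMap kx K₂ 1) -
        (algebraMap kx K₁ 1 ⊗ₜ[kx] (1 : K₂)) * ((1 : K₁) ⊗ₜ[kx] algebraMap kx K₂ a) = 0
      simp only [Algebra.TensorProduct.tmul_mul_tmul, map_one, mul_one, one_mul]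
      rw [Algebra.algebraMap_eq_smul_one, Algebra.algebraMap_eq_smul_one (A := K₂),
        TensorProduct.smul_tmul, sub_self]
    rw [this]
    exact M.zero_mem
  -- the coefficients
  let R := k₁ ⊗[k] k₂
  let A₁ := MvPolynomial (Fin r) k₁
  let A₂ := MvPolynomial (Fin r) k₂
  letI : Algebra P A₁ := (MvPolynomial.map (algebraMap k k₁)).toAlgebra
  letI : Algebra P A₂ := (MvPolynomial.map (algebraMap k k₂)).toAlgebra
  letI : Algebra A₁ K₁ := (MvPolynomial.aeval fun i => algebraMap kx K₁ (t i)).toRingHom.toAlgebra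
  letI : Algebra A₂ K₂ := (MvPolynomial.aeval fun i => algebraMap kx K₂ (t i)).toRingHom.toAlgebra
  haveI : IsScalarTower P A₁ K₁ := IsScalarTower.of_algebraMap_eq' (MvPolynomial.ringHom_ext
    (fun c => by
      simp [RingHom.algebraMap_toAlgebra, ← IsScalarTower.algebraMap_apply]
      rw [MvPolynomial.map_C, MvPolynomial.aeval_C, ← IsScalarTower.algebraMap_apply])
    (fun i => by
      simp [RingHom.algebraMap_toAlgebra]
      rw [MvPolynomial.map_X, MvPolynomial.aeval_X]))
  haveI : IsScalarTower P A₂ K₂ := IsScalarTower.of_algebraMap_eq' (MvPolynomial.ringHom_ext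
    (fun c => by
      simp [RingHom.algebraMap_toAlgebra, ← IsScalarTower.algebraMap_apply]
      rw [MvPolynomial.map_C, MvPolynomial.aeval_C, ← IsScalarTower.algebraMap_apply])
    (fun i => by
      simp [RingHom.algebraMap_toAlgebra]
      rw [MvPolynomial.map_X, MvPolynomial.aeval_X]))
  haveI : Module.Flat A₁ K₁ := flat_of_algebraicIndependent ht₁
  haveI : Module.Flat A₂ K₂ := flat_of_algebraicIndependent ht₂
  let C := A₁ ⊗[P] A₂
  let κ : C →ₐ[P] D := Algebra.TensorProduct.map (IsScalarTower.toAlgHom P A₁ K₁) (IsScalarTower.toAlgHom P A₂ K₂)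
  have hflat : κ.toRingHom.Flat := by
    have h1 := flat_map_left (P := P) (A := A₁) (A' := K₁) (B := A₂)
    have h2 := flat_map_left (P := P) (A := A₂) (A' := K₂) (B := K₁)
    have h := RingHom.Flat.comp (RingHom.Flat.comp (RingHom.Flat.comp h1 (RingHom.Flat.of_bijective
      (f := (Algebra.TensorProduct.comm P K₁ A₂).toRingEquiv.toRingHom) (Algebra.TensorProduct.comm P K₁ A₂).bijective)) h2)
      (RingHom.Flat.of_bijective (f := (Algebra.TensorProduct.comm P K₂ K₁).toRingEquiv.toRingHom) (Algebra.TensorProduct.comm P K₂ K₁).bijective)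
    convert h using 1
    refine RingHom.ext fun z => ?_
    induction z using TensorProduct.induction_on with
    | zero => simp only [map_zero]
    | tmul a b => rfl
    | add a b ha hb => rw [map_add, map_add, ha, hb]
  have hkD : ∀ c : k, (algebraMap k K₁ c) ⊗ₜ[P] (1 : K₂) = (1 : K₁) ⊗ₜ[P] (algebraMap k K₂ c) := fun c => by
    have e1 : algebraMap k K₁ c = algebraMap P K₁ (MvPolynomial.C c) :=
      (IsScalarTower.algebraMap_apply k kx K₁ c).trans (congrArg (algebraMap kx K₁) (MvPolynomial.aeval_C t c).symm)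
    have e2 : algebraMap k K₂ c = algebraMap P K₂ (MvPolynomial.C c) :=
      (IsScalarTower.algebraMap_apply k kx K₂ c).trans (congrArg (algebraMap kx K₂) (MvPolynomial.aeval_C t c).symm)
    rw [e1, e2, Algebra.algebraMap_eq_smul_one, Algebra.algebraMap_eq_smul_one (A := K₂), TensorProduct.smul_tmul]
  obtain ⟨ρ, hρ⟩ := exists_ringHom_tensor (A := k₁) (B := k₂)
    ((Algebra.TensorProduct.includeLeftRingHom : K₁ →+* D).comp (algebraMap k₁ K₁))
    ((Algebra.TensorProduct.includeRight : K₂ →ₐ[P] D).toRingHom.comp (algebraMap k₂ K₂)) fun c =>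
      ((congrArg (fun x : K₁ => x ⊗ₜ[P] (1 : K₂)) (IsScalarTower.algebraMap_apply k k₁ K₁ c).symm).trans (hkD c)).trans
        (congrArg (fun x : K₂ => (1 : K₁) ⊗ₜ[P] x) (IsScalarTower.algebraMap_apply k k₂ K₂ c))
  have hρ₁ : ∀ a : k₁, ρ (a ⊗ₜ 1) = algebraMap k₁ K₁ a ⊗ₜ[P] (1 : K₂) := fun a => by
    rw [hρ, map_one, mul_one]
    rfl
  have hρ₂ : ∀ b : k₂, ρ (1 ⊗ₜ b) = (1 : K₁) ⊗ₜ[P] algebraMap k₂ K₂ b := fun b => by
    rw [hρ, map_one, one_mul]
    rfl
  let X' : Fin r → D := fun i => algebraMap kx K₁ (t i) ⊗ₜ[P] (1 : K₂)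
  let Φ : MvPolynomial (Fin r) R →+* D := MvPolynomial.eval₂Hom ρ X'
  letI : Algebra P (MvPolynomial (Fin r) R) := (MvPolynomial.map (algebraMap k R)).toAlgebra
  let χ : C →ₐ[P] MvPolynomial (Fin r) R := Algebra.TensorProduct.lift
    { MvPolynomial.map (Algebra.TensorProduct.includeLeftRingHom : k₁ →+* R) with
      commutes' := fun z => by
        show MvPolynomial.map _ (MvPolynomial.map (algebraMap k k₁) z) = MvPolynomial.map (algebraMap k R) z
        rw [MvPolynomial.map_map]
        rfl }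
    { MvPolynomial.map (Algebra.TensorProduct.includeRight : k₂ →ₐ[k] R).toRingHom with
      commutes' := fun z => by
        show MvPolynomial.map _ (MvPolynomial.map (algebraMap k k₂) z) = MvPolynomial.map (algebraMap k R) z
        rw [MvPolynomial.map_map]
        congr 2
        exact RingHom.ext (Algebra.TensorProduct.includeRight : k₂ →ₐ[k] R).commutes }
    fun _ _ => Commute.all _ _
  have hχ : Function.Surjective χ := by
    intro F
    induction F using MvPolynomial.induction_on with
    | C z =>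
      induction z using TensorProduct.induction_on with
      | zero => exact ⟨0, by rw [map_zero, map_zero]⟩
      | tmul a b =>
        refine ⟨MvPolynomial.C a ⊗ₜ MvPolynomial.C b, ?_⟩
        show MvPolynomial.map _ (MvPolynomial.C a) * MvPolynomial.map _ (MvPolynomial.C b) = _
        rw [MvPolynomial.map_C, MvPolynomial.map_C, ← map_mul]
        exact congrArg MvPolynomial.C ((Algebra.TensorProduct.tmul_mul_tmul a 1 1 b).trans (by rw [mul_one, one_mul]))
      | add a b ha hb =>
        obtain ⟨a', ha⟩ := ha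
        obtain ⟨b', hb⟩ := hb
        exact ⟨a' + b', by rw [map_add, map_add, ha, hb]⟩
    | add a b ha hb =>
      obtain ⟨a', rfl⟩ := ha
      obtain ⟨b', rfl⟩ := hb
      exact ⟨a' + b', map_add _ _ _⟩
    | mul_X a i ha =>
      obtain ⟨a', rfl⟩ := ha
      refine ⟨a' * (MvPolynomial.X i ⊗ₜ 1), ?_⟩
      rw [map_mul]
      congr 1
      show MvPolynomial.map _ (MvPolynomial.X i) * MvPolynomial.map _ 1 = _
      rw [MvPolynomial.map_X, map_one, mul_one]
  have hΦχ : ∀ z, Φ (χ z) = κ z := fun z => by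
    induction z using TensorProduct.induction_on with
    | zero => simp only [map_zero]
    | add a b ha hb => rw [map_add, map_add, map_add, ha, hb]
    | tmul a b =>
      have e1 : ∀ a : A₁, Φ (MvPolynomial.map (Algebra.TensorProduct.includeLeftRingHom : k₁ →+* R) a) =
          algebraMap A₁ K₁ a ⊗ₜ[P] (1 : K₂) := fun a => by
        induction a using MvPolynomial.induction_on with
        | C c =>
          simp [Φ, hρ₁, hρ₂, RingHom.algebraMap_toAlgebra]
          rw [MvPolynomial.aeval_C]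
        | add a b ha hb => rw [map_add, map_add, map_add, ha, hb, TensorProduct.add_tmul]
        | mul_X a i ha =>
          rw [map_mul, map_mul, ha, map_mul, MvPolynomial.map_X,
            show Φ (MvPolynomial.X i) = X' i from MvPolynomial.eval₂_X _ _ i, Algebra.TensorProduct.tmul_mul_tmul, mul_one,
            show algebraMap A₁ K₁ (MvPolynomial.X i) = algebraMap kx K₁ (t i) from MvPolynomial.aeval_X _ i]
      have e2 : ∀ b : A₂, Φ (MvPolynomial.map (Algebra.TensorProduct.includeRight : k₂ →ₐ[k] R).toRingHom b) =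
          (1 : K₁) ⊗ₜ[P] algebraMap A₂ K₂ b := fun b => by
        induction b using MvPolynomial.induction_on with
        | C c =>
          simp [Φ, hρ₁, hρ₂, RingHom.algebraMap_toAlgebra]
          rw [MvPolynomial.aeval_C]
        | add a b ha hb => rw [map_add, map_add, map_add, ha, hb, TensorProduct.tmul_add]
        | mul_X a i ha =>
          have e3 : X' i = (1 : K₁) ⊗ₜ[P] algebraMap kx K₂ (t i) := by
            have f1 : algebraMap kx K₁ (t i) = algebraMap P K₁ (MvPolynomial.X i) :=
              congrArg (algebraMap kx K₁) (MvPolynomial.aeval_X t i).symm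
            have f2 : algebraMap kx K₂ (t i) = algebraMap P K₂ (MvPolynomial.X i) :=
              congrArg (algebraMap kx K₂) (MvPolynomial.aeval_X t i).symm
            show algebraMap kx K₁ (t i) ⊗ₜ[P] (1 : K₂) = _
            rw [f1, f2, Algebra.algebraMap_eq_smul_one, Algebra.algebraMap_eq_smul_one (A := K₂), TensorProduct.smul_tmul]
          rw [map_mul, map_mul, ha, map_mul, MvPolynomial.map_X,
            show Φ (MvPolynomial.X i) = X' i from MvPolynomial.eval₂_X _ _ i, e3, Algebra.TensorProduct.tmul_mul_tmul,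
            one_mul,
            show algebraMap A₂ K₂ (MvPolynomial.X i) = algebraMap kx K₂ (t i) from MvPolynomial.aeval_X _ i]
      show Φ (MvPolynomial.map _ a * MvPolynomial.map _ b) = algebraMap A₁ K₁ a ⊗ₜ[P] algebraMap A₂ K₂ b
      rw [map_mul, e1, e2, Algebra.TensorProduct.tmul_mul_tmul, mul_one, one_mul]
  let q := Q.comap Φ
  have hq : q ∈ minimalPrimes (MvPolynomial (Fin r) R) := by
    refine ⟨⟨inferInstance, bot_le⟩, fun q' hq' hle => ?_⟩
    haveI := hq'.1
    letI := κ.toRingHom.toAlgebra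
    haveI : Module.Flat C D := hflat
    have hmin : Q.comap κ.toRingHom ∈ minimalPrimes C := by
      refine ⟨⟨Ideal.comap_isPrime _ _, bot_le⟩, fun p' hp' hle' => ?_⟩
      haveI := hp'.1
      haveI : Q.LiesOver (Q.comap κ.toRingHom) := ⟨rfl⟩
      obtain ⟨Q', hQ'le, hQ'p, hQ'o⟩ := Q.exists_ideal_le_liesOver_of_le (p := p') (q := Q.comap κ.toRingHom) hle'
      have : Q' = Q := le_antisymm hQ'le (hQ.2 ⟨hQ'p, bot_le⟩ hQ'le)
      rw [hQ'o.over, this]
      exact le_rfl
    intro F hF
    obtain ⟨z, rfl⟩ := hχ F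
    have h1 : q'.comap χ.toRingHom ≤ Q.comap κ.toRingHom := fun w hw => by
      have := hle (hw : χ w ∈ q')
      show κ w ∈ Q
      rw [← hΦχ]
      exact this
    have h2 := hmin.2 ⟨Ideal.comap_isPrime _ _, bot_le⟩ h1
    have : z ∈ Q.comap κ.toRingHom := by
      show κ z ∈ Q
      rw [← hΦχ]
      exact hF
    exact h2 this
  let Ω := FractionRing (D ⧸ Q)
  let π : D →+* Ω := (algebraMap (D ⧸ Q) Ω).comp (Ideal.Quotient.mk Q)
  have hπ : ∀ z, π z = 0 ↔ z ∈ Q := fun z => by
    rw [← Ideal.Quotient.eq_zero_iff_mem]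
    exact map_eq_zero_iff _ (IsFractionRing.injective (D ⧸ Q) Ω)
  let φ₁ : K₁ →+* Ω := π.comp Algebra.TensorProduct.includeLeftRingHom
  let φ₂ : K₂ →+* Ω := π.comp (Algebra.TensorProduct.includeRight : K₂ →ₐ[P] D).toRingHom
  let p : Ideal R := RingHom.ker (π.comp ρ)
  haveI : p.IsPrime := RingHom.ker_isPrime _
  let K := FractionRing (R ⧸ p)
  let η : R ⧸ p →+* Ω := Ideal.Quotient.lift p (π.comp ρ) fun a ha => ha
  have hη : Function.Injective η := by
    rw [injective_iff_map_eq_zero]
    intro a ha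
    obtain ⟨a, rfl⟩ := Ideal.Quotient.mk_surjective a
    exact Ideal.Quotient.eq_zero_iff_mem.2 ha
  letI : Algebra (R ⧸ p) Ω := η.toAlgebra
  letI : Algebra K Ω := (IsFractionRing.lift hη : K →+* Ω).toAlgebra
  haveI : IsScalarTower (R ⧸ p) K Ω := IsScalarTower.of_algebraMap_eq fun z => (IsFractionRing.lift_algebraMap hη z).symm
  let u : R →+* K := (algebraMap (R ⧸ p) K).comp (Ideal.Quotient.mk p)
  have hu : ∀ z, algebraMap K Ω (u z) = π (ρ z) := fun z => IsFractionRing.lift_algebraMap hη _
  refine ⟨Ω, K, inferInstance, inferInstance, inferInstance, φ₁, φ₂,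
    u.comp Algebra.TensorProduct.includeLeftRingHom,
    u.comp (Algebra.TensorProduct.includeRight : k₂ →ₐ[k] R).toRingHom, ?_, ?_, ?_, ?_, ?_⟩
  · refine RingHom.ext fun a => sub_eq_zero.1 ?_
    show π (algebraMap kx K₁ a ⊗ₜ[P] (1 : K₂)) - π ((1 : K₁) ⊗ₜ[P] algebraMap kx K₂ a) = 0
    rw [← map_sub, hπ]
    have := hdiag a
    rw [map_sub, Algebra.TensorProduct.map_tmul, Algebra.TensorProduct.map_tmul, map_one, map_one] at this
    exact this
  · refine RingHom.ext fun c => congrArg u ?_
    show (algebraMap k k₁ c) ⊗ₜ[k] (1 : k₂) = (1 : k₁) ⊗ₜ[k] (algebraMap k k₂ c)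
    rw [Algebra.algebraMap_eq_smul_one, Algebra.algebraMap_eq_smul_one (A := k₂), TensorProduct.smul_tmul]
  · refine RingHom.ext fun a => ?_
    refine Eq.trans ?_ (hu _).symm
    exact (congrArg π (hρ₁ a)).symm
  · refine RingHom.ext fun a => ?_
    refine Eq.trans ?_ (hu _).symm
    exact (congrArg π (hρ₂ a)).symm
  · haveI : Algebra.IsAlgebraic (R ⧸ p) K := IsLocalization.isAlgebraic K (nonZeroDivisors (R ⧸ p))
    refine AlgebraicIndependent.extendScalars (R := R ⧸ p) K ?_
    rw [algebraicIndependent_iff]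
    intro F hF
    obtain ⟨G, rfl⟩ := MvPolynomial.map_surjective (Ideal.Quotient.mk p) Ideal.Quotient.mk_surjective F
    have hG : G ∈ q := by
      show Φ G ∈ Q
      rw [← hπ]
      refine Eq.trans ?_ hF
      rw [MvPolynomial.aeval_def, MvPolynomial.eval₂_map]
      show π (MvPolynomial.eval₂ ρ X' G) = _
      rw [MvPolynomial.eval₂_comp_left π]
      rfl
    ext m
    rw [MvPolynomial.coeff_map, MvPolynomial.coeff_zero, Ideal.Quotient.eq_zero_iff_mem]
    have h := coeff_mem_of_minimal q hq hG m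
    show π (ρ (G.coeff m)) = 0
    rw [hπ]
    have h' : Φ (MvPolynomial.C (G.coeff m)) ∈ Q := h
    rwa [MvPolynomial.eval₂Hom_C] at h'

end

end Groth.Agent.TrdegPair
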